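import Cfsg.Agent.LocalB.EqualDegree.Main
import Cfsg.Agent.BlocksB.QuotientDefect

/-!
# Normal defect groups: orbit sums, nilpotency and the map to a quotient
-/

set_option autoImplicit false
set_option linter.style.haveILetI false
set_option linter.unusedSectionVars false

namespace CfsgLib.NormalDefect

open Cfsg Finset CfsgLib.Block CfsgLib.Block.Chr CfsgLib.BrauerPairs
open scoped Classical

universe u

local notation "C[" Q "]" => Subgroup.centralizer (SetLike.coe Q)
local notation "N[" Q "]" => Subgroup.normalizer (SetLike.coe Q)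

section
variable {k : Type*} [Field k] {p : ℕ} [hp : Fact p.Prime] [CharP k p]
  {G : Type u} [Group G] [Fintype G] {P : Subgroup G} {e : MonoidAlgebra k G}

/-- The sum of the distinct conjugates of an element under a subgroup. -/
noncomputable def orbitSum (T : Subgroup G) (e : MonoidAlgebra k G) : MonoidAlgebra k G :=
  ∑ e' ∈ univ.image (fun t : T => cj k (t : G) e), e'

theorem mem_orbit {T : Subgroup G} {e' : MonoidAlgebra k G} :
    e' ∈ univ.image (fun t : T => cj k (t : G) e) ↔ ∃ t ∈ T, cj k t e = e' := by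
  simp [Subtype.exists]

theorem fixBy_orbitSum (T : Subgroup G) (e : MonoidAlgebra k G) : FixBy T (orbitSum T e) := by
  intro t ht
  rw [orbitSum, map_sum]
  refine sum_bij (fun x _ => cj k t x) (fun x hx => ?_) (fun a _ c _ h => (cj k t).injective h)
    (fun x hx => ?_) fun _ _ => rfl
  · obtain ⟨s, hs, rfl⟩ := mem_orbit.1 hx
    exact mem_orbit.2 ⟨t * s, T.mul_mem ht hs, cj_mul t s e⟩
  · obtain ⟨s, hs, rfl⟩ := mem_orbit.1 hx
    exact ⟨_, mem_orbit.2 ⟨t⁻¹ * s, T.mul_mem (T.inv_mem ht) hs, rfl⟩,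
      by rw [← cj_mul, mul_inv_cancel_left]⟩

theorem isBlk_conj (hP : P.Normal) (he : IsBlk k C[P] e) (t : G) : IsBlk k C[P] (cj k t e) :=
  he.cj_of_mem (map_normalizer_centralizer (by rw [Subgroup.normalizer_eq_top]; trivial))

theorem orbitSum_suppIn (hP : P.Normal) (he : IsBlk k C[P] e) (T : Subgroup G) :
    SuppIn C[P] (orbitSum T e) := fun g hg => by
  rw [orbitSum, MonoidAlgebra.coeff_sum, Finsupp.finsetSum_apply]
  refine sum_eq_zero fun x hx => ?_
  obtain ⟨t, -, rfl⟩ := mem_orbit.1 hx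
  exact (isBlk_conj hP he t).suppIn g hg

theorem orbitSum_mul (hP : P.Normal) (he : IsBlk k C[P] e) (T : Subgroup G) {f : MonoidAlgebra k G}
    (hf : IsBlk k C[P] f) :
    orbitSum T e * f = if f ∈ univ.image (fun t : T => cj k (t : G) e) then f else 0 := by
  have hne : ∀ x ∈ univ.image (fun t : T => cj k (t : G) e), x ≠ f → x * f = 0 := fun x hx h => by
    obtain ⟨t, -, rfl⟩ := mem_orbit.1 hx
    exact (isBlk_conj hP he t).mul_eq_zero_of_ne (alg_comm le_rfl) hf h
  rw [orbitSum, sum_mul]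
  split_ifs with h
  · rw [sum_eq_single f (fun x hx hx' => hne x hx hx') (fun h' => absurd h h'), hf.idem]
  · exact sum_eq_zero fun x hx => hne x hx fun e' => h (e' ▸ hx)

theorem orbitSum_idem (hP : P.Normal) (he : IsBlk k C[P] e) (T : Subgroup G) :
    orbitSum T e * orbitSum T e = orbitSum T e := by
  conv_lhs => arg 2; rw [orbitSum]
  rw [mul_sum, orbitSum]
  refine sum_congr rfl fun x hx => ?_
  obtain ⟨t, -, ht'⟩ := mem_orbit.1 hx
  rw [← orbitSum, orbitSum_mul hP he T (ht' ▸ isBlk_conj hP he t), if_pos hx]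

/-- A pair below has a nonzero product with the top idempotent. -/
theorem mul_ne_zero_of_ple {Q : Subgroup G} {f : MonoidAlgebra k G} (hP : IsPair p (P, e))
    (hle : PLE p (Q, f) (P, e)) : f * e ≠ 0 := by
  suffices h : ∀ {x : Subgroup G × MonoidAlgebra k G}, PLE p x (P, e) → x.2 * e ≠ 0 from h hle
  clear hle f Q
  intro x hle
  induction hle using Relation.ReflTransGen.head_induction_on with
  | refl => rw [hP.2.idem]; exact hP.2.ne_zero
  | @head a c h1 h2 ih =>
    obtain ⟨R, g⟩ := a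
    obtain ⟨S, h⟩ := c
    intro h0
    refine ih ?_
    have hSP : S ≤ P := PLE.le h2
    have hS : IsPGroup p S := h1.2.1.1
    have hblk : IsBlk k C[S] h := h1.2.1.2
    have hfe : FixBy S e := (fixBy_of_suppIn_centralizer hP.2.suppIn).mono hSP
    have hfh : FixBy S h := fixBy_of_suppIn_centralizer hblk.suppIn
    have hfg : FixBy S g := h1.2.2.2.2.1
    have hes : SuppIn C[S] e :=
      hP.2.suppIn.mono (Subgroup.centralizer_le (SetLike.coe_subset_coe.mpr hSP))
    have hcomm : h * e = e * h := (alg_commute le_rfl hes hblk.fixBy).symm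
    have h3 : br S (g * (h * e)) = h * e := by
      rw [← mul_assoc, br_mul hS (fun t ht => by rw [map_mul, hfg t ht, hfh t ht]) hfe,
        br_mul hS hfg hfh, br_eq_self hblk.suppIn, br_eq_self hes]
      exact congrArg (· * e) h1.2.2.2.2.2
    show h * e = 0
    rw [← h3, hcomm, ← mul_assoc, show g * e = 0 from h0, zero_mul, map_zero]

/-- For a normal defect group the block is nilpotent when the regular elements stabilizing the
maximal pair centralize it. -/
theorem isNil_of_regular {b : MonoidAlgebra k G} (hb : IsBlk k ⊤ b)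
    (hmax : IsMaxPair p b (P, e)) (hn : P.Normal)
    (hT : ∀ s ∈ stab P e, ¬ p ∣ orderOf s → s ∈ C[P]) : IsNil p b := by
  have hP : IsPair p (P, e) := hmax.1.1
  rw [isNil_iff_below hP hb hmax]
  intro Q f hle t ht hreg
  have hQf : IsPair p (Q, f) := PLE.isPair hle hP
  have hQP : Q ≤ P := hle.le
  have hCC : C[P] ≤ C[Q] := Subgroup.centralizer_le (SetLike.coe_subset_coe.mpr hQP)
  have hnorm : ∀ x : G, x ∈ N[P] := fun x => by rw [Subgroup.normalizer_eq_top]; trivial
  have hfe0 : f * e ≠ 0 := mul_ne_zero_of_ple hP hle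
  have hS := alg_comm (k := k) (le_refl (C[Q] : Subgroup G))
  set E := orbitSum (C[Q] : Subgroup G) e
  have hE : E ∈ alg k C[Q] C[Q] :=
    ⟨(orbitSum_suppIn hn hP.2 _).mono hCC, fixBy_orbitSum _ e⟩
  have hfE : f * E = f := by
    rcases hQf.2.mul_eq_zero_or hE (orbitSum_idem hn hP.2 _) with h | h
    · refine absurd ?_ hfe0
      have h2 : E * e = e := by
        rw [orbitSum_mul hn hP.2 _ hP.2, if_pos (mem_orbit.2 ⟨1, one_mem _, cj_one e⟩)]
      rw [← h2, ← mul_assoc, h, zero_mul]
    · exact h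
  have hte : IsBlk k C[P] (cj k t e) := isBlk_conj hn hP.2 t
  obtain ⟨c, hc, hce⟩ : ∃ c ∈ (C[Q] : Subgroup G), cj k c e = cj k t e := by
    by_contra hno
    have h0 : f * cj k t e = 0 := by
      rw [← hfE, mul_assoc, orbitSum_mul hn hP.2 _ hte, if_neg (fun h => hno (mem_orbit.1 h)),
        mul_zero]
    rw [← ht.2, ← map_mul] at h0
    exact hfe0 ((map_eq_zero_iff _ (cj k t).injective).1 h0)
  set y := c⁻¹ * t
  have hyT : y ∈ stab P e := ⟨hnorm y, by rw [cj_mul, ← hce, cj_inv_cj]⟩
  have hact : ∀ u ∈ Q, y * u * y⁻¹ = t * u * t⁻¹ := fun u hu => by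
    have htu : t * u * t⁻¹ ∈ Q := (Subgroup.mem_normalizer_iff.1 ht.1 u).1 hu
    calc y * u * y⁻¹ = c⁻¹ * (t * u * t⁻¹) * c := by simp only [y]; group
      _ = t * u * t⁻¹ := by
        rw [mul_assoc, Subgroup.mem_centralizer_iff.1 hc _ htu, inv_mul_cancel_left]
  -- the regular part of `y`
  obtain ⟨a, r, hr, hya⟩ := Nat.exists_eq_pow_mul_and_not_dvd (orderOf_pos y).ne' p hp.out.ne_one
  obtain ⟨m, hm1, hm2⟩ := Nat.chineseRemainder (n := p ^ a) (m := orderOf t)
    ((hp.out.coprime_iff_not_dvd.2 hreg).pow_left a) 0 1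
  have hsreg : ¬ p ∣ orderOf (y ^ m) := by
    obtain ⟨j, hj⟩ := (Nat.modEq_zero_iff_dvd.1 hm1)
    intro hd
    have h1 : (y ^ m) ^ r = 1 := by
      rw [← pow_mul, hj, mul_right_comm, ← hya, pow_mul, pow_orderOf_eq_one, one_pow]
    exact hr (hd.trans (orderOf_dvd_of_pow_eq_one h1))
  have hs : y ^ m ∈ C[P] := hT _ (pow_mem hyT m) hsreg
  have hpow : ∀ (j : ℕ) (u : G), u ∈ Q →
      y ^ j * u * (y ^ j)⁻¹ = t ^ j * u * (t ^ j)⁻¹ ∧ t ^ j * u * (t ^ j)⁻¹ ∈ Q := by
    intro j u hu
    induction j with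
    | zero => simpa using hu
    | succ j ih =>
      refine ⟨?_, (Subgroup.mem_normalizer_iff.1 (pow_mem ht.1 _) u).1 hu⟩
      calc y ^ (j + 1) * u * (y ^ (j + 1))⁻¹ = y * (y ^ j * u * (y ^ j)⁻¹) * y⁻¹ := by
            rw [pow_succ']; group
        _ = t * (t ^ j * u * (t ^ j)⁻¹) * t⁻¹ := by rw [ih.1, hact _ ih.2]
        _ = t ^ (j + 1) * u * (t ^ (j + 1))⁻¹ := by rw [pow_succ']; group
  have htm : t ^ m = t := by
    conv_rhs => rw [← pow_one t]
    exact pow_eq_pow_iff_modEq.2 hm2
  refine Subgroup.mem_centralizer_iff.2 fun u hu => ?_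
  have h1 := (hpow m u hu).1
  rw [htm, ← Subgroup.mem_centralizer_iff.1 hs u (hQP hu), mul_inv_cancel_right] at h1
  exact mul_inv_eq_iff_eq_mul.1 h1.symm |>.symm

end

section quotient
variable {k : Type*} [Field k] {G : Type u} [Group G] [Fintype G] (N : Subgroup G) [N.Normal]

/-- The map of group algebras to a quotient. -/
noncomputable def toQ : MonoidAlgebra k G →ₐ[k] MonoidAlgebra k (G ⧸ N) :=
  MonoidAlgebra.mapDomainAlgHom k k (QuotientGroup.mk' N)

theorem coeff_toQ (a : MonoidAlgebra k G) (q : G ⧸ N) :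
    (toQ N a).coeff q = ∑ x ∈ univ.filter (fun x : G => QuotientGroup.mk' N x = q), a.coeff x := by
  have ha : a = ∑ x : G, a.coeff x • MonoidAlgebra.single x (1 : k) :=
    coeff_ext fun g => by
      rw [MonoidAlgebra.coeff_sum, Finsupp.finsetSum_apply, sum_eq_single g]
      · simp
      · intro h _ hne; simp [hne]
      · simp
  conv_lhs => rw [ha, map_sum, MonoidAlgebra.coeff_sum, Finsupp.finsetSum_apply]
  rw [sum_filter]
  refine sum_congr rfl fun x _ => ?_
  simp [toQ, Finsupp.single_apply]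
  rfl

theorem toQ_cj (t : G) (a : MonoidAlgebra k G) :
    toQ N (cj k t a) = cj k (QuotientGroup.mk' N t) (toQ N a) := by
  refine coeff_ext fun q => ?_
  rw [coeff_cj, coeff_toQ, coeff_toQ]
  refine sum_equiv (MulAut.conj t⁻¹).toEquiv (fun x => ?_) fun x _ => by
    simp [coeff_cj]
  simp only [mem_filter, mem_univ, true_and]
  show QuotientGroup.mk' N x = q ↔ QuotientGroup.mk' N (t⁻¹ * x * t⁻¹⁻¹) =
    (QuotientGroup.mk' N t)⁻¹ * q * QuotientGroup.mk' N t
  rw [map_mul, map_mul, inv_inv, map_inv, mul_left_inj, mul_right_inj]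

end quotient

section block
variable {M : Ideal AlgInt} [M.IsPrime] {p : ℕ} [Fact p.Prime] [CharP (Residue M) p]
  {G : Type u} [Group G] [Fintype G] {N : Subgroup G} [N.Normal] [Fintype (G ⧸ N)]

/-- The image of the idempotent of a block fixes the idempotents of the blocks below. -/
theorem toQ_idem_mul (hM : IsPModular p M) {B : Set (IrrCharacter G)} (hB : IsPBlock M B)
    {Bb : Set (IrrCharacter (G ⧸ N))} (hBb : IsPBlock M Bb)
    (hsub : ∀ χ ∈ Bb, Block.Quot.inflIrr χ ∈ B) :
    toQ N (idem M B) * idem M Bb = idem M Bb := by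
  letI := irrFintype (G := G ⧸ N)
  have hb := isIntClass_blockCoeff hB
  have hmem : ∀ q, MemLocalRing M (blockCoeff (Block.Quot.below (N := N) B) q) := fun q => by
    rw [Block.Quot.blockCoeff_below]
    exact memLocalRing_sum fun x _ => hb.2 x
  have he : toQ N (idem M B) = redFun M (blockCoeff (Block.Quot.below (N := N) B)) := by
    refine coeff_ext fun q => ?_
    rw [coeff_toQ, coeff_redFun, Block.Quot.blockCoeff_below, red_sum _ fun x _ => hb.2 x]
    exact sum_congr rfl fun x _ => by rw [idem, coeff_redFun]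
  rw [he, idem, ← redFun_conv hmem (isIntClass_blockCoeff hBb).2]
  congr 1
  funext q
  have hc1 := isClassFunction_blockCoeff (G := G ⧸ N) (Block.Quot.below (N := N) B)
  have hc2 := isClassFunction_blockCoeff (G := G ⧸ N) Bb
  rw [eq_sum_omega (isClassFunction_conv hc1 hc2) q, eq_sum_omega hc2 q]
  congr 1
  refine sum_congr rfl fun ψ _ => ?_
  rw [omega_conv ψ hc1, omega_blockCoeff, omega_blockCoeff]
  by_cases hψ : ψ ∈ Bb
  · rw [if_pos hψ, if_pos (show ψ ∈ Block.Quot.below (N := N) B from hsub ψ hψ), one_mul]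
  · rw [if_neg hψ, mul_zero]

end block

end CfsgLib.NormalDefect
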