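import Cfsg.Agent.LocalB.NormalDefect.Basic
import Cfsg.Agent.BlocksB.QuotientPCentral
import Cfsg.Agent.Blocks.Reynolds
import Cfsg.Agent.BrauerPairs.NormalSupport
import Cfsg.Agent.Solvable.CoprimeAct
import Cfsg.Agent.CharP.ResidualBasics

/-!
# Blocks with normal defect group whose height zero characters have equal degrees
-/

set_option autoImplicit false
set_option linter.style.haveILetI false
set_option linter.unusedSectionVars false

namespace CfsgLib.NormalDefect

open Cfsg Finset CfsgLib.Block CfsgLib.Block.Chr CfsgLib.BrauerPairs CfsgLib.BlockStar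
open scoped Classical commutatorElement

universe u

local notation "C[" Q "]" => Subgroup.centralizer (SetLike.coe Q)

variable {M : Ideal AlgInt} [M.IsPrime] {p : ℕ} [Fact p.Prime] [CharP (Residue M) p]
  {G : Type u} [Group G] [Fintype G] {B : Set (IrrCharacter G)}

local notation "𝕜" => Residue M

/-- In a nilpotent block the characters of height zero have equal degrees. -/
theorem equal_degree_height_zero (hM : IsPModular p M) (hB : IsPBlock M B)
    (hnil : IsNil p (idem M B)) {P : Subgroup G} {e : MonoidAlgebra 𝕜 G}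
    (hmax : IsMaxPair p (idem M B) (P, e)) :
    ∃ d : ℕ, ∀ χ ∈ B, blockHeight p B ((χ : IrrCharacter G) : G → ℂ) = 0 →
      charDegree ((χ : IrrCharacter G) : G → ℂ) = d := by
  haveI : Fintype P := Fintype.ofFinite P
  obtain ⟨χ₀, hχ₀, h0, Φ, hΦ⟩ := exists_generating hM hB hnil hmax
  refine ⟨charDegree (χ₀ : G → ℂ), fun χ hχ hh => ?_⟩
  obtain ⟨ζ, hζ⟩ := Φ.surjective ⟨χ, hχ⟩
  have hdeg : charDegree (χ : G → ℂ) = charDegree (ζ : P → ℂ) * charDegree (χ₀ : G → ℂ) := by
    have h := hΦ ζ 1 (by rw [orderOf_one]; exact hM.1.not_dvd_one)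
    rw [hζ, (irr_one χ).1, (irr_one χ₀).1] at h
    exact_mod_cast h
  obtain ⟨n, hn⟩ := IsPGroup.iff_card.1 hmax.1.1.1
  obtain ⟨j, -, hj⟩ := (Nat.dvd_prime_pow hM.1).1 (hn ▸ charDegree_dvd_card ζ)
  have hle : sInf ((fun ψ : IrrCharacter G => (charDegree (ψ : G → ℂ)).factorization p) '' B) ≤
      (charDegree (χ₀ : G → ℂ)).factorization p := Nat.sInf_le ⟨χ₀, hχ₀, rfl⟩
  unfold blockHeight at hh h0
  rw [hdeg, hj, Nat.factorization_mul (pow_ne_zero _ hM.1.ne_zero) (irr_one χ₀).2.ne',
    Finsupp.add_apply, hM.1.factorization_pow, Finsupp.single_eq_same] at hh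
  rw [hdeg, hj, show j = 0 by omega, pow_zero, one_mul]

/-- Regular elements acting trivially on the quotient by the derived group centralize. -/
theorem mem_centralizer_of_regular {D : Subgroup G} [D.Normal] (hD : IsPGroup p D) {x : G}
    (hx : ¬ p ∣ orderOf x)
    (hq : QuotientGroup.mk' ⁅D, D⁆ x ∈
      Subgroup.centralizer ((D.map (QuotientGroup.mk' ⁅D, D⁆) : Subgroup _) : Set (G ⧸ ⁅D, D⁆))) :
    x ∈ (C[D] : Subgroup G) := by
  haveI := hD.isNilpotent
  refine CoprimeAct.trivial_on_frattini_quotient (A := Subgroup.zpowers x)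
    (Subgroup.zpowers_le.2 (by rw [Subgroup.normalizer_eq_top]; trivial)) ?_ (fun a ha k hk => ?_)
    (Subgroup.mem_zpowers x)
  · obtain ⟨n, hn⟩ := IsPGroup.iff_card.1 (hD.to_subgroup (frattini D))
    rw [Nat.card_zpowers, hn]
    exact (((Fact.out : p.Prime).coprime_iff_not_dvd.2 hx).pow_left n).symm
  · refine Subgroup.map_mono (ResidualBasics.commutator_le_frattini_of_nilpotent D) ?_
    rw [Subgroup.map_subtype_commutator]
    have ha' : QuotientGroup.mk' ⁅D, D⁆ a ∈
        Subgroup.centralizer ((D.map (QuotientGroup.mk' ⁅D, D⁆) : Subgroup _) : Set (G ⧸ ⁅D, D⁆)) := by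
      obtain ⟨i, rfl⟩ := ha
      rw [map_zpow]
      exact Subgroup.zpow_mem _ hq i
    have hc := Subgroup.mem_centralizer_iff.1 ha' _ ⟨k, hk, rfl⟩
    rw [← QuotientGroup.eq_one_iff]
    show QuotientGroup.mk' ⁅D, D⁆ (a * k * a⁻¹ * k⁻¹) = 1
    rw [map_mul, map_mul, map_mul, map_inv, map_inv, ← hc, mul_inv_cancel_right, mul_inv_cancel]

set_option maxHeartbeats 400000 in
/-- **The inertial group of a block with normal defect group and equal degrees in height zero.** -/
theorem regular_stab_le (hM : IsPModular p M) (hB : IsPBlock M B) {D : Subgroup G} [D.Normal]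
    (hD : IsDefectGroup p M B D) {e : MonoidAlgebra 𝕜 G}
    (hmax : IsMaxPair p (idem M B) (D, e)) {d₀ : ℕ}
    (hd : ∀ χ ∈ B, blockHeight p B ((χ : IrrCharacter G) : G → ℂ) = 0 →
      charDegree ((χ : IrrCharacter G) : G → ℂ) = d₀) :
    ∀ s ∈ stab D e, ¬ p ∣ orderOf s → s ∈ (C[D] : Subgroup G) := by
  have hP : IsPair p (D, e) := hmax.1.1
  have heblk : IsBlk 𝕜 (C[D] : Subgroup G) e := hP.2
  have hDp : IsPGroup p D := hP.1
  set N := ⁅D, D⁆ with hN
  haveI : N.Normal := Subgroup.commutator_normal D D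
  haveI := Fintype.ofFinite (G ⧸ N)
  haveI := Fintype.ofFinite N
  set π := QuotientGroup.mk' N
  have hND : N ≤ D := Subgroup.commutator_le_self D
  have hNp : IsPGroup p N := hDp.to_le hND
  obtain ⟨Bb, hBb, hsub, hdef⟩ := Block.Quot.exists_block_map_defectGroup (N := N) hM hNp hB
  set Db := D.map π with hDbdef
  have hDb : IsDefectGroup p M Bb Db := (hdef Db).2 ⟨D, hD, rfl⟩
  haveI hDbn : Db.Normal := (inferInstance : D.Normal).map π (QuotientGroup.mk'_surjective N)
  have habD : ∀ a ∈ Db, ∀ c ∈ Db, a * c = c * a := by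
    rintro _ ⟨a, ha, rfl⟩ _ ⟨c, hc, rfl⟩
    rw [← map_mul, ← map_mul]
    show ((a * c : G) : G ⧸ N) = ((c * a : G) : G ⧸ N)
    rw [QuotientGroup.eq, show (a * c)⁻¹ * (c * a) = ⁅c⁻¹, a⁻¹⁆ by
      rw [commutatorElement_def]; group]
    exact Subgroup.commutator_mem_commutator (D.inv_mem hc) (D.inv_mem ha)
  -- heights and degrees below
  have hdb : ∀ χ ∈ Bb, charDegree ((χ : IrrCharacter (G ⧸ N)) : G ⧸ N → ℂ) = d₀ := by
    intro χ hχ
    have hinfl : charDegree ((Block.Quot.inflIrr χ : IrrCharacter G) : G → ℂ) =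
        charDegree (χ : G ⧸ N → ℂ) := by
      show ⌊((χ : G ⧸ N → ℂ) (((1 : G)) : G ⧸ N)).re⌋₊ = _
      rw [QuotientGroup.mk_one]
      rfl
    rw [← hinfl]
    refine hd _ (hsub χ hχ) ?_
    have hz := (Block.abelian_iff_height_zero hM hBb Db hDb).1 habD χ hχ
    obtain ⟨ψ, hψ, hψ0⟩ := exists_height_zero hM hB
    obtain ⟨ψb, hψb, hψb0⟩ := exists_height_zero hM hBb
    have hp := hM.1
    have c1 := card_defectGroup hM hB hD
    have c2 := card_defectGroup hM hBb hDb
    have c3 : (Nat.card G).factorization p =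
        (Nat.card (G ⧸ N)).factorization p + (Nat.card N).factorization p := by
      rw [Subgroup.card_eq_card_quotient_mul_card_subgroup N,
        Nat.factorization_mul Nat.card_pos.ne' Nat.card_pos.ne', Finsupp.add_apply]
    have c4 : blockDefect p B = blockDefect p Bb + (Nat.card N).factorization p := by
      have h1 : Nat.card D = Nat.card Db * Nat.card N := by
        have hker : (π.comp D.subtype).ker = N.subgroupOf D := by
          rw [← MonoidHom.comap_ker, QuotientGroup.ker_mk']; rfl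
        rw [Subgroup.card_eq_card_quotient_mul_card_subgroup (π.comp D.subtype).ker,
          Nat.card_congr (QuotientGroup.quotientKerEquivRange _).toEquiv, MonoidHom.range_comp,
          Subgroup.range_subtype, hker, Nat.card_congr (Subgroup.subgroupOfEquivOfLe hND).toEquiv]
      obtain ⟨n, hn⟩ := IsPGroup.iff_card.1 hNp
      rw [c1, c2, hn, ← pow_add] at h1
      rw [hn, hp.factorization_pow, Finsupp.single_eq_same]
      exact Nat.pow_right_injective hp.two_le h1
    have l1 : ∀ φ : IrrCharacter G,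
        (charDegree (φ : G → ℂ)).factorization p ≤ (Nat.card G).factorization p := fun φ =>
      (Nat.factorization_le_iff_dvd (irr_one φ).2.ne' Nat.card_pos.ne').2 (charDegree_dvd_card φ) p
    have l2 : ∀ φ : IrrCharacter (G ⧸ N),
        (charDegree (φ : G ⧸ N → ℂ)).factorization p ≤ (Nat.card (G ⧸ N)).factorization p :=
      fun φ => (Nat.factorization_le_iff_dvd (irr_one φ).2.ne' Nat.card_pos.ne').2
        (charDegree_dvd_card φ) p
    have s1 := Nat.sInf_le (s := (fun φ : IrrCharacter G =>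
      (charDegree (φ : G → ℂ)).factorization p) '' B) ⟨ψ, hψ, rfl⟩
    have s2 := Nat.sInf_le (s := (fun φ : IrrCharacter (G ⧸ N) =>
      (charDegree (φ : G ⧸ N → ℂ)).factorization p) '' Bb) ⟨χ, hχ, rfl⟩
    have s3 := l1 ψ
    have s4 := l2 χ
    unfold blockHeight at hz ⊢
    unfold blockDefect at c4
    rw [hinfl]
    omega
  -- a maximal pair below
  obtain ⟨f₀, hmax₀⟩ := exists_isMaxPair (isBlk_idem hM hBb) (isDef_of_isDefectGroup hM hBb hDb)
  have hCsupp : SuppIn (C[D] : Subgroup G) (idem M B) := fun g hg => by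
    rw [idem, coeff_redFun, blockCoeff_eq_zero_of_normal hM hDp hB hg, red_zero]
  have hb := isBlk_idem hM hB
  set E := orbitSum (⊤ : Subgroup G) e with hE
  have hEb : idem M B = E := by
    have hEmem : E ∈ alg 𝕜 (⊤ : Subgroup G) ⊤ := ⟨suppIn_top _, fixBy_orbitSum _ e⟩
    have he : idem M B * e = e := by
      have := hmax.1.2
      rwa [br_eq_self hCsupp] at this
    have h1 : idem M B * E = E := by
      rw [hE, orbitSum, mul_sum]
      refine sum_congr rfl fun x hx => ?_
      obtain ⟨t, -, rfl⟩ := mem_orbit.1 hx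
      conv_lhs => rw [← hb.fixBy t trivial, ← map_mul, he]
    rcases hb.mul_eq_zero_or hEmem (orbitSum_idem inferInstance heblk _) with h | h
    · exfalso
      rw [h] at h1
      refine heblk.ne_zero ?_
      rw [← heblk.idem]
      have h2 := orbitSum_mul inferInstance heblk (⊤ : Subgroup G) heblk
      rw [if_pos (mem_orbit.2 ⟨1, Subgroup.mem_top 1, cj_one e⟩), ← hE, ← h1, zero_mul] at h2
      rw [← h2, zero_mul]
    · rw [← h, h1]
  have hQsupp : ∀ a : MonoidAlgebra 𝕜 G, SuppIn (C[D] : Subgroup G) a →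
      SuppIn (C[Db] : Subgroup (G ⧸ N)) (toQ N a) := fun a ha q hq => by
    rw [coeff_toQ]
    refine sum_eq_zero fun x hx => ha x fun hxC => hq ?_
    rw [← (mem_filter.1 hx).2]
    refine Subgroup.mem_centralizer_iff.2 ?_
    rintro _ ⟨y, hy, rfl⟩
    rw [← map_mul, ← map_mul, Subgroup.mem_centralizer_iff.1 hxC y hy]
  have hf₀ : toQ N (idem M B) * f₀ = f₀ := by
    have h1 := hmax₀.1.2
    have h2 := br_mul (p := p) hmax₀.1.1.1 (fixBy_of_suppIn_centralizer (hQsupp _ hCsupp))
      ((idem_mem (M := M) Bb).2.mono le_top)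
    rw [toQ_idem_mul hM hB hBb hsub, br_eq_self (hQsupp _ hCsupp)] at h2
    calc toQ N (idem M B) * f₀ = toQ N (idem M B) * (br Db (idem M Bb) * f₀) := by rw [h1]
      _ = br Db (idem M Bb) * f₀ := by rw [← mul_assoc, ← h2]
      _ = f₀ := h1
  obtain ⟨x, hx⟩ : ∃ x : G, toQ N (cj 𝕜 x e) * f₀ ≠ 0 := by
    by_contra hno
    simp only [not_exists, not_not] at hno
    refine hmax₀.1.1.2.ne_zero ?_
    show f₀ = 0
    rw [← hf₀, hEb, hE, orbitSum, map_sum, sum_mul]
    refine sum_eq_zero fun y hy => ?_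
    obtain ⟨t, -, rfl⟩ := mem_orbit.1 hy
    exact hno t
  set f := cj 𝕜 (π x)⁻¹ f₀ with hf
  have hmapD : ∀ q : G ⧸ N, Db.map (MulAut.conj q).toMonoidHom = Db := fun q =>
    map_conj_eq_self (by rw [Subgroup.normalizer_eq_top]; trivial)
  have hmaxf : IsMaxPair p (idem M Bb) (Db, f) := by
    refine (isMaxPair_iff_card (isBlk_idem hM hBb) (isDef_of_isDefectGroup hM hBb hDb)).mpr
      ⟨?_, rfl⟩
    have h := hmax₀.1.cj (isBlk_idem hM hBb) (π x)⁻¹
    rwa [cjPair, hmapD] at h
  have hne : toQ N e * f ≠ 0 := by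
    intro h0
    refine hx ?_
    have h := congrArg (cj 𝕜 (π x)) h0
    rw [map_mul, map_zero, hf, cj_cj_inv, ← toQ_cj] at h
    exact h
  have hfb : IsBlk 𝕜 C[Db] f := hmaxf.1.1.2
  -- the block below comes from the centralizer upstairs
  have hreg : ∀ q, p ∣ orderOf q → f.coeff q = 0 := by
    haveI := Fintype.ofFinite (C[Db] : Subgroup (G ⧸ N))
    obtain ⟨c, hc, hce⟩ := exists_idemIn_eq hM hfb
    intro q hq
    by_cases hqC : q ∈ (C[Db] : Subgroup (G ⧸ N))
    · have hq' : p ∣ orderOf (⟨q, hqC⟩ : (C[Db] : Subgroup (G ⧸ N))) := by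
        rwa [Subgroup.orderOf_mk]
      rw [← hce, idemIn_eq,
        show q = ((⟨q, hqC⟩ : (C[Db] : Subgroup (G ⧸ N))) : G ⧸ N) from rfl, coeff_emb_coe,
        idem, coeff_redFun, blockCoeff_eq_zero_of_singular hM hc hq', red_zero]
    · exact hfb.suppIn q hqC
  let a : MonoidAlgebra 𝕜 G := ofFun fun y =>
    if y ∈ (C[D] : Subgroup G) ∧ ¬ p ∣ orderOf y then f.coeff (π y) else 0
  have hπC : ∀ y ∈ (C[D] : Subgroup G), π y ∈ (C[Db] : Subgroup (G ⧸ N)) := fun y hy => by
    refine Subgroup.mem_centralizer_iff.2 ?_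
    rintro _ ⟨z, hz, rfl⟩
    rw [← map_mul, ← map_mul, Subgroup.mem_centralizer_iff.1 hy z hz]
  have haC : a ∈ alg 𝕜 (C[D] : Subgroup G) (C[D] : Subgroup G) := by
    refine ⟨fun y hy => ?_, fixBy_of_coeff fun t ht y => ?_⟩
    · simp only [a, coeff_ofFun]
      rw [if_neg fun h => hy h.1]
    · simp only [a, coeff_ofFun]
      have ho : orderOf (t⁻¹ * y * t) = orderOf y := by
        simpa using orderOf_injective (MulAut.conj t⁻¹).toMonoidHom (MulAut.conj t⁻¹).injective y
      have hm : t⁻¹ * y * t ∈ (C[D] : Subgroup G) ↔ y ∈ (C[D] : Subgroup G) := by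
        refine ⟨fun h => ?_, fun h => Subgroup.mul_mem _ (Subgroup.mul_mem _
          (Subgroup.inv_mem _ ht) h) ht⟩
        have := Subgroup.mul_mem _ (Subgroup.mul_mem _ ht h) (Subgroup.inv_mem _ ht)
        simpa [mul_assoc] using this
      rw [ho, show π (t⁻¹ * y * t) = (π t)⁻¹ * π y * π t by simp,
        hfb.fixBy.coeff_eq (hπC t ht)]
      simp only [hm]
  have hπa : toQ N a = f := by
    refine coeff_ext fun q => ?_
    rw [coeff_toQ]
    by_cases hq : q ∈ (C[Db] : Subgroup (G ⧸ N)) ∧ ¬ p ∣ orderOf q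
    swap
    · have h0 : f.coeff q = 0 := by
        rcases not_and_or.1 hq with h | h
        · exact hfb.suppIn q h
        · exact hreg q (not_not.1 h)
      rw [h0]
      refine sum_eq_zero fun y hy => ?_
      simp only [a, coeff_ofFun]
      split_ifs
      · rw [show π y = q from (mem_filter.1 hy).2, h0]
      · rfl
    obtain ⟨y₀, rfl, hy₀⟩ := Block.Quot.exists_regular_lift (p := p) hq.2
    have hy₀C : y₀ ∈ (C[D] : Subgroup G) := mem_centralizer_of_regular hDp hy₀ hq.1
    rw [sum_eq_single y₀]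
    · simp only [a, coeff_ofFun]
      rw [if_pos ⟨hy₀C, hy₀⟩]
    · intro y hy hne'
      simp only [a, coeff_ofFun]
      rw [if_neg]
      rintro ⟨hyC, hyr⟩
      refine hne' ?_
      set v := y₀⁻¹ * y
      have hvN : v ∈ N := (QuotientGroup.eq).1 (mem_filter.1 hy).2.symm
      have hcomm : Commute v y₀ := Subgroup.mem_centralizer_iff.1 hy₀C v (hND hvN)
      have hy' : y₀ * v = y := mul_inv_cancel_left _ _
      obtain ⟨k, hk⟩ := hNp ⟨v, hvN⟩
      have hk' : v ^ p ^ k = 1 := congrArg Subtype.val hk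
      set m := orderOf y * orderOf y₀
      have hvm : v ^ m = 1 := by
        have h1 : y ^ m = 1 := by rw [pow_mul, pow_orderOf_eq_one, one_pow]
        rwa [← hy', hcomm.symm.mul_pow, show y₀ ^ m = 1 by
          rw [show m = orderOf y₀ * orderOf y from mul_comm _ _, pow_mul, pow_orderOf_eq_one,
            one_pow], one_mul] at h1
      have hcop : Nat.Coprime (p ^ k) m := by
        refine ((Fact.out : p.Prime).coprime_iff_not_dvd.2 fun h' => ?_).pow_left k
        rcases (Fact.out : p.Prime).dvd_mul.1 h' with h'' | h''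
        · exact hyr h''
        · exact hy₀ h''
      have hv1 : v = 1 := by
        rw [← pow_one v, ← hcop.gcd_eq_one]
        exact pow_gcd_eq_one.mpr ⟨hk', hvm⟩
      exact (inv_mul_eq_one.1 hv1).symm
    · intro h
      refine absurd ?_ h
      rw [mem_filter]
      exact ⟨mem_univ _, rfl⟩
  have hfe : f * toQ N e = toQ N e := by
    have hS := alg_comm (k := 𝕜) (le_refl (C[D] : Subgroup G))
    have hae : a * e ∈ alg 𝕜 (C[D] : Subgroup G) (C[D] : Subgroup G) := mul_mem haC heblk.mem
    have hπe : toQ N e * toQ N e = toQ N e := by rw [← map_mul, heblk.idem]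
    have hcomm : f * toQ N e = toQ N e * f := by
      have h := congrArg (toQ N) (hS _ haC _ heblk.mem)
      rwa [map_mul, map_mul, hπa] at h
    have hidem : toQ N (a * e) * toQ N (a * e) = toQ N (a * e) := by
      rw [map_mul, hπa]
      calc f * toQ N e * (f * toQ N e) = f * (toQ N e * f) * toQ N e := by simp only [mul_assoc]
        _ = f * f * (toQ N e * toQ N e) := by rw [← hcomm]; simp only [mul_assoc]
        _ = f * toQ N e := by rw [hfb.idem, hπe]
    rcases heblk.nilpotent_or_inv hS hae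
        (by rw [hS _ heblk.mem _ hae, mul_assoc, heblk.idem]) with ⟨n, hn⟩ | ⟨w, -, hw⟩
    · exfalso
      have h1 : toQ N (a * e) = 0 := by
        have hpow : ∀ j, toQ N (a * e) ^ (j + 1) = toQ N (a * e) := fun j => by
          induction j with
          | zero => rw [pow_one]
          | succ j ih => rw [pow_succ, ih, hidem]
        rw [← hpow n, pow_succ, ← map_pow, hn, map_zero, zero_mul]
      rw [map_mul, hπa, hcomm] at h1
      exact hne h1
    · calc f * toQ N e = f * toQ N (a * e * w) := by rw [hw]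
        _ = f * f * toQ N e * toQ N w := by simp only [map_mul, hπa, mul_assoc]
        _ = f * toQ N e * toQ N w := by rw [hfb.idem]
        _ = toQ N e := by rw [← hπa, ← map_mul, ← map_mul, hw]
  have hstab : stab Db f ≤ (C[Db] : Subgroup (G ⧸ N)) :=
    EqualDegree.stab_le_centralizer hM hBb hDb hmaxf habD hdb
  intro t ht htr
  refine mem_centralizer_of_regular hDp htr (hstab ⟨by rw [Subgroup.normalizer_eq_top]; trivial, ?_⟩)
  by_contra hne'
  have hblk : IsBlk 𝕜 C[Db] (cj 𝕜 (π t) f) := isBlk_conj hDbn hfb _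
  have h0 : f * cj 𝕜 (π t) f = 0 :=
    IsPrimIdem.mul_eq_zero_of_ne (alg_comm (k := 𝕜) (le_refl (C[Db] : Subgroup (G ⧸ N)))) hfb hblk
      (Ne.symm hne')
  have h1 : cj 𝕜 (π t) f * toQ N e = toQ N e := by
    conv_lhs => arg 2; rw [← ht.2, toQ_cj]
    rw [← map_mul, hfe, ← toQ_cj, ht.2]
  refine hne ?_
  have h2 : f * (cj 𝕜 (π t) f * toQ N e) = 0 := by rw [← mul_assoc, h0, zero_mul]
  rw [h1, hfe] at h2
  rw [h2, zero_mul]

/-- **Blocks with normal defect group: equal degrees in height zero means nilpotent.** -/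
theorem equal_degrees_iff (hM : IsPModular p M) (hB : IsPBlock M B) {D : Subgroup G} [D.Normal]
    (hD : IsDefectGroup p M B D) :
    (∃ d : ℕ, ∀ χ ∈ B, blockHeight p B ((χ : IrrCharacter G) : G → ℂ) = 0 →
        charDegree ((χ : IrrCharacter G) : G → ℂ) = d) ↔
      IsNilpotentBlock p M B := by
  have hb := isBlk_idem hM hB
  obtain ⟨e, hmax⟩ := exists_isMaxPair hb (isDef_of_isDefectGroup hM hB hD)
  rw [isNilpotentBlock_iff hM, and_iff_right hB]
  exact ⟨fun ⟨d, hd⟩ => isNil_of_regular hb hmax inferInstance (regular_stab_le hM hB hD hmax hd),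
    fun h => equal_degree_height_zero hM hB h hmax⟩

end CfsgLib.NormalDefect
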